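import Mathlib
import Groth.Agent.Lib.Helper1.ThickAff5
import Groth.Agent.Lib.Lead.QC.PullbackUnit
import Groth.Agent.Lib.Lead.QC.ClosedUnit

/-! # A scheme covered by two affine closed subschemes is affine (product of ideals zero). -/

universe u
open CategoryTheory Limits Opposite Abelian TopologicalSpace AlgebraicGeometry

namespace Groth.Agent.H5.ClosedCover

open Groth.Agent.LD Groth.Agent.LD.SC Groth.Agent.LD.QC

section Closed
variable {Z X : Scheme.{u}} (i : Z ⟶ X) [IsClosedImmersion i]

/-- the kernel of the unit `G → i_* i^* G` on an affine open is `I · G`. -/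
theorem mem_ker_smul_top_of_unitSec_eq_zero (G : X.Modules) [G.IsQuasicoherent] {U : X.Opens}
    (hU : IsAffineOpen U) (m : Γ(G, U)) (hm : unitSec i G U m = 0) :
    m ∈ (RingHom.ker (i.app U).hom) • (⊤ : Submodule Γ(X, U) Γ(G, U)) := by
  have e : i ⁻¹ᵁ U ≤ i ⁻¹ᵁ U := le_rfl
  have hU' : IsAffineOpen (i ⁻¹ᵁ U) := hU.preimage i
  letI := (i.appLE U (i ⁻¹ᵁ U) e).hom.toAlgebra
  letI := pbModule i G e
  haveI := pbModule_isScalarTower i G e
  have hbc : IsBaseChange Γ(Z, i ⁻¹ᵁ U) (pbSecₗ i G e) := isBaseChange_pbSec i hU' hU e G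
  have happ : i.appLE U (i ⁻¹ᵁ U) e = i.app U := (Scheme.Hom.app_eq_appLE i).symm
  have hs : Function.Surjective (algebraMap Γ(X, U) Γ(Z, i ⁻¹ᵁ U)) := by
    change Function.Surjective (i.appLE U (i ⁻¹ᵁ U) e).hom
    rw [happ]
    exact i.app_surjective U hU
  have hfun : (pbSecₗ i G e : Γ(G, U) → Γ((Scheme.Modules.pullback i).obj G, i ⁻¹ᵁ U)) =
      unitSec i G U := by
    funext m
    change pbSec i G e m = _
    rw [pbSec, res_self]
  have hker : RingHom.ker (algebraMap Γ(X, U) Γ(Z, i ⁻¹ᵁ U)) = RingHom.ker (i.app U).hom := by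
    change RingHom.ker (i.appLE U (i ⁻¹ᵁ U) e).hom = _
    rw [happ]
  have h1 := isBaseChange_ker_of_surjective hbc hs
  rw [← hker, ← h1, LinearMap.mem_ker]
  have := congrFun hfun m
  rw [this]
  exact hm

end Closed

variable {X Z₁ Z₂ : Scheme.{u}}

/-- dévissage: if `X` is covered (scheme-theoretically up to product zero) by two affine closed
subschemes then `H¹` of every quasi-coherent module vanishes. -/
theorem h1Zero_of_two (t₁ : Z₁ ⟶ X) (t₂ : Z₂ ⟶ X) [IsClosedImmersion t₁] [IsClosedImmersion t₂]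
    [IsAffine Z₁] [IsAffine Z₂] (hprod : t₂.ker * t₁.ker = ⊥)
    (M : X.Modules) [hM : M.IsQuasicoherent] : H1Zero M := by
  let φ : M ⟶ (Scheme.Modules.pushforward t₁).obj ((Scheme.Modules.pullback t₁).obj M) :=
    (Scheme.Modules.pullbackPushforwardAdjunction t₁).unit.app M
  haveI hpb : ((Scheme.Modules.pullback t₁).obj M).IsQuasicoherent := qc_pullback t₁ M
  haveI hq : ((Scheme.Modules.pushforward t₁).obj
      ((Scheme.Modules.pullback t₁).obj M)).IsQuasicoherent :=
    qc_pushforward t₁ _
  haveI hK : (kernel φ).IsQuasicoherent := qc_kernel φ hM hq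
  haveI hepi : Epi φ := by
    apply epi_of_local_lift
    intro U s x hx
    obtain ⟨W, hW, hxW, hWU⟩ := exists_isAffineOpen_mem_and_subset (x := x) (U := U) hx
    refine ⟨W, hWU, hxW, ?_⟩
    obtain ⟨g, hg⟩ := (unitSec_closedImmersion t₁ M hW).1
      (((Scheme.Modules.pushforward t₁).obj ((Scheme.Modules.pullback t₁).obj M)).presheaf.map
        (homOfLE hWU).op s)
    exact ⟨g, hg⟩
  let S : ShortComplex X.Modules := ShortComplex.mk (kernel.ι φ) φ (kernel.condition φ)
  have hS : S.ShortExact :=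
    { exact := ShortComplex.exact_of_f_is_kernel S (kernelIsKernel φ)
      mono_f := inferInstanceAs (Mono (kernel.ι φ))
      epi_g := hepi }
  have hann : ∀ (U : X.affineOpens) (a : Γ(X, U.1)), a ∈ t₂.ker.ideal U →
      ∀ s : Γ(kernel φ, U.1), a • s = 0 := by
    intro U a ha s
    apply mono_app (kernel.ι φ) U.1
    rw [Scheme.Modules.Hom.app_smul, map_zero]
    have h0 : unitSec t₁ M U.1 ((kernel.ι φ).app U.1 s) = 0 := kernel_ι_app_comp φ U.1 s
    have hmem := mem_ker_smul_top_of_unitSec_eq_zero t₁ M U.2 _ h0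
    have key : ∀ m ∈ (RingHom.ker (t₁.app U.1).hom) • (⊤ : Submodule Γ(X, U.1) Γ(M, U.1)),
        a • m = 0 := by
      intro m hm
      refine Submodule.smul_induction_on hm ?_ ?_
      · intro b hb n _
        have h2 : a * b ∈ (t₂.ker * t₁.ker).ideal U := by
          rw [Scheme.IdealSheafData.ideal_mul]
          refine Ideal.mul_mem_mul ha ?_
          rw [Scheme.Hom.ker_apply]
          exact hb
        rw [hprod] at h2
        have h3 : a * b = 0 := h2
        rw [← mul_smul, h3, zero_smul]
      · intro x y hx hy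
        rw [smul_add, hx, hy, add_zero]
    exact key _ hmem
  have hiso := (isIso_unit_closedImmersion_iff t₂ (kernel φ)).mpr hann
  haveI : ((Scheme.Modules.pullback t₂).obj (kernel φ)).IsQuasicoherent :=
    qc_pullback t₂ (kernel φ)
  have h1 : H1Zero (kernel φ) :=
    subsingleton_ext_of_iso ((toAbF X).mapIso
      (asIso ((Scheme.Modules.pullbackPushforwardAdjunction t₂).unit.app (kernel φ))).symm) 1
      (Groth.Agent.H1.ThickAff.h1Zero_pushforward_of_isAffine t₂
        ((Scheme.Modules.pullback t₂).obj (kernel φ)))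
  have h3 : H1Zero ((Scheme.Modules.pushforward t₁).obj ((Scheme.Modules.pullback t₁).obj M)) :=
    Groth.Agent.H1.ThickAff.h1Zero_pushforward_of_isAffine t₁ _
  exact h1Zero_of_shortExact hS h1 h3

/-- two affine closed subschemes covering `X` with product of ideals zero: `X` is affine. -/
theorem isAffine_of_two_of_mul_eq_bot (t₁ : Z₁ ⟶ X) (t₂ : Z₂ ⟶ X) [IsClosedImmersion t₁]
    [IsClosedImmersion t₂] [IsAffine Z₁] [IsAffine Z₂] (hprod : t₂.ker * t₁.ker = ⊥)
    (hcov : ∀ x : X, x ∈ Set.range t₁.base ∨ x ∈ Set.range t₂.base) : IsAffine X := by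
  haveI : CompactSpace X := by
    constructor
    have h1 : IsCompact (Set.range t₁.base) := isCompact_range t₁.continuous
    have h2 : IsCompact (Set.range t₂.base) := isCompact_range t₂.continuous
    have : (Set.univ : Set X) = Set.range t₁.base ∪ Set.range t₂.base := by
      ext x
      simp only [Set.mem_univ, Set.mem_union, true_iff]
      exact hcov x
    rw [this]
    exact h1.union h2
  exact isAffine_of_h1Zero (fun I _ _ hI => by
    haveI := hI
    exact h1Zero_of_two t₁ t₂ hprod I)

end Groth.Agent.H5.ClosedCover
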