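import Mathlib
import Groth.Agent.Lib.Helper5.ClosedCover.CcA
import Groth.Agent.Lib.Lead.QC.QuotTorsion

/-! # A scheme covered by finitely many affine closed subschemes is affine. -/

universe u v
open CategoryTheory Limits Opposite Abelian TopologicalSpace AlgebraicGeometry

namespace Groth.Agent.H5.ClosedCover

open Groth.Agent.LD Groth.Agent.LD.SC Groth.Agent.LD.QC

variable {X : Scheme.{u}}

/-- `M` is annihilated by the ideal sheaf `J`. -/
def Ann (J : X.IdealSheafData) (M : X.Modules) : Prop :=
  ∀ (U : X.affineOpens) (a : Γ(X, U.1)), a ∈ J.ideal U → ∀ s : Γ(M, U.1), a • s = 0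

theorem h1Zero_base (M : X.Modules) [M.IsQuasicoherent] (hM : Ann (⊤ : X.IdealSheafData) M) :
    H1Zero M := by
  apply h1Zero_of_isZero
  by_contra h
  obtain ⟨U, hU, s, hs⟩ := exists_affine_section_ne_zero M h
  apply hs
  have := hM ⟨U, hU⟩ 1 (by rw [Scheme.IdealSheafData.ideal_top]; trivial) s
  rwa [one_smul] at this

theorem h1Zero_step {Z : Scheme.{u}} (t : Z ⟶ X) [IsClosedImmersion t] [IsAffine Z]
    (J : X.IdealSheafData)
    (hIH : ∀ (K : X.Modules) [K.IsQuasicoherent], Ann J K → H1Zero K)
    (M : X.Modules) [hMq : M.IsQuasicoherent] (hM : Ann (J * t.ker) M) : H1Zero M := by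
  let φ : M ⟶ (Scheme.Modules.pushforward t).obj ((Scheme.Modules.pullback t).obj M) :=
    (Scheme.Modules.pullbackPushforwardAdjunction t).unit.app M
  haveI hpb : ((Scheme.Modules.pullback t).obj M).IsQuasicoherent := qc_pullback t M
  haveI hq : ((Scheme.Modules.pushforward t).obj
      ((Scheme.Modules.pullback t).obj M)).IsQuasicoherent :=
    qc_pushforward t _
  haveI hK : (kernel φ).IsQuasicoherent := qc_kernel φ hMq hq
  haveI hepi : Epi φ := by
    apply epi_of_local_lift
    intro U s x hx
    obtain ⟨W, hW, hxW, hWU⟩ := exists_isAffineOpen_mem_and_subset (x := x) (U := U) hx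
    refine ⟨W, hWU, hxW, ?_⟩
    obtain ⟨g, hg⟩ := (unitSec_closedImmersion t M hW).1
      (((Scheme.Modules.pushforward t).obj ((Scheme.Modules.pullback t).obj M)).presheaf.map
        (homOfLE hWU).op s)
    exact ⟨g, hg⟩
  let S : ShortComplex X.Modules := ShortComplex.mk (kernel.ι φ) φ (kernel.condition φ)
  have hS : S.ShortExact :=
    { exact := ShortComplex.exact_of_f_is_kernel S (kernelIsKernel φ)
      mono_f := inferInstanceAs (Mono (kernel.ι φ))
      epi_g := hepi }
  have hann : Ann J (kernel φ) := by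
    intro U a ha s
    apply mono_app (kernel.ι φ) U.1
    rw [Scheme.Modules.Hom.app_smul, map_zero]
    have h0 : unitSec t M U.1 ((kernel.ι φ).app U.1 s) = 0 := kernel_ι_app_comp φ U.1 s
    have hmem := mem_ker_smul_top_of_unitSec_eq_zero t M U.2 _ h0
    have key : ∀ m ∈ (RingHom.ker (t.app U.1).hom) • (⊤ : Submodule Γ(X, U.1) Γ(M, U.1)),
        a • m = 0 := by
      intro m hm
      refine Submodule.smul_induction_on hm ?_ ?_
      · intro b hb n _
        have h2 : a * b ∈ (J * t.ker).ideal U := by
          rw [Scheme.IdealSheafData.ideal_mul]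
          refine Ideal.mul_mem_mul ha ?_
          rw [Scheme.Hom.ker_apply]
          exact hb
        rw [← mul_smul]
        exact hM U (a * b) h2 n
      · intro x y hx hy
        rw [smul_add, hx, hy, add_zero]
    exact key _ hmem
  have h1 : H1Zero (kernel φ) := hIH (kernel φ) hann
  have h3 : H1Zero ((Scheme.Modules.pushforward t).obj ((Scheme.Modules.pullback t).obj M)) :=
    Groth.Agent.H1.ThickAff.h1Zero_pushforward_of_isAffine t _
  exact h1Zero_of_shortExact hS h1 h3

theorem h1Zero_of_ann_prod {κ : Type v} (Z : κ → Scheme.{u}) (t : ∀ k, Z k ⟶ X)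
    [∀ k, IsClosedImmersion (t k)] [∀ k, IsAffine (Z k)] (s : Finset κ) :
    ∀ (M : X.Modules) [M.IsQuasicoherent], Ann (∏ k ∈ s, (t k).ker) M → H1Zero M := by
  classical
  induction s using Finset.induction_on with
  | empty =>
    intro M _ hM
    rw [Finset.prod_empty] at hM
    exact h1Zero_base M hM
  | insert a s ha ih =>
    intro M _ hM
    rw [Finset.prod_insert ha, mul_comm] at hM
    exact h1Zero_step (t a) _ ih M hM

end Groth.Agent.H5.ClosedCover
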