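import Mathlib
import Groth.Agent.Lib.Helper5.ClosedCover.CcB

/-! # A scheme covered by finitely many affine closed subschemes is affine. -/

universe u v
open CategoryTheory Limits Opposite Abelian TopologicalSpace AlgebraicGeometry

namespace Groth.Agent.H5.ClosedCover

open Groth.Agent.LD Groth.Agent.LD.SC Groth.Agent.LD.QC

variable {X : Scheme.{u}}

lemma ideal_prod {κ : Type v} (I : κ → X.IdealSheafData) (s : Finset κ) (U : X.affineOpens) :
    (∏ k ∈ s, I k).ideal U = ∏ k ∈ s, (I k).ideal U := by
  classical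
  induction s using Finset.induction_on with
  | empty =>
    rw [Finset.prod_empty, Finset.prod_empty, Ideal.one_eq_top]
    exact congrFun Scheme.IdealSheafData.ideal_top U
  | insert a s ha ih =>
    rw [Finset.prod_insert ha, Finset.prod_insert ha, Scheme.IdealSheafData.ideal_mul,
      Pi.mul_apply, ih]

theorem isAffine_of_finite_closed_cover {κ : Type v} [Finite κ] (Z : κ → Scheme.{u})
    (ι : ∀ k, Z k ⟶ X) [∀ k, IsClosedImmersion (ι k)] [∀ k, IsAffine (Z k)]
    (hcov : ∀ x : X, ∃ k, x ∈ Set.range (ι k).base) : IsAffine X := by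
  classical
  haveI := Fintype.ofFinite κ
  let J : X.IdealSheafData := ∏ k, (ι k).ker
  let j : J.subscheme ⟶ X := J.subschemeι
  have hj : j.ker = J := J.ker_subschemeι
  have hle : ∀ k, j.ker ≤ (ι k).ker := by
    intro k
    rw [hj]
    change ∏ k, (ι k).ker ≤ _
    rw [← Finset.mul_prod_erase Finset.univ _ (Finset.mem_univ k)]
    exact mul_le_of_le_one_right bot_le le_top
  let s : ∀ k, Z k ⟶ J.subscheme := fun k => IsClosedImmersion.lift j (ι k) (hle k)
  have hfac : ∀ k, s k ≫ j = ι k := fun k => IsClosedImmersion.lift_fac j (ι k) (hle k)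
  haveI : ∀ k, IsClosedImmersion (s k ≫ j) := fun k => by rw [hfac]; infer_instance
  haveI : ∀ k, IsClosedImmersion (s k) := fun k => IsClosedImmersion.of_comp (s k) j
  have hprod : ∏ k, (s k).ker = ⊥ := by
    apply Scheme.IdealSheafData.ext_of_iSup_eq_top
      (fun U' : X.affineOpens => (⟨j ⁻¹ᵁ U'.1, U'.2.preimage j⟩ : J.subscheme.affineOpens))
    · rw [eq_top_iff]
      intro z _
      obtain ⟨U₀, hU₀, hz, -⟩ := exists_isAffineOpen_mem_and_subset (x := j z) (U := ⊤) trivial
      exact Opens.mem_iSup.mpr ⟨⟨U₀, hU₀⟩, hz⟩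
    · intro U'
      rw [ideal_prod]
      have h1 : ∀ k, (s k).ker.ideal ⟨j ⁻¹ᵁ U'.1, U'.2.preimage j⟩ =
          Ideal.map (j.app U'.1).hom ((ι k).ker.ideal U') := by
        intro k
        rw [Groth.Agent.H1.ThickAff.ker_ideal_preimage_of_comp (s k) j U', hfac]
      simp_rw [h1]
      have h3 : ∏ k, Ideal.map (j.app U'.1).hom ((ι k).ker.ideal U') =
          Ideal.map (j.app U'.1).hom (∏ k, (ι k).ker.ideal U') :=
        (map_prod (Ideal.mapHom (j.app U'.1).hom) _ _).symm
      rw [h3, Scheme.IdealSheafData.ideal_bot, Pi.bot_apply, eq_bot_iff,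
        Ideal.map_le_iff_le_comap, ← ideal_prod]
      intro y hy
      rw [Ideal.mem_comap, Ideal.mem_bot]
      have h2 : y ∈ j.ker.ideal U' := by rw [hj]; exact hy
      rw [Scheme.Hom.ker_apply, RingHom.mem_ker] at h2
      exact h2
  have hcov' : ∀ z : J.subscheme, ∃ k, z ∈ Set.range (s k).base := by
    intro z
    obtain ⟨k, a, ha⟩ := hcov (j z)
    refine ⟨k, a, j.isEmbedding.injective ?_⟩
    rw [← ha, ← hfac k]
    rfl
  haveI : CompactSpace J.subscheme := by
    constructor
    have : (Set.univ : Set J.subscheme) = ⋃ k, Set.range (s k).base := by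
      ext z
      simp only [Set.mem_univ, Set.mem_iUnion, true_iff]
      exact hcov' z
    rw [this]
    exact isCompact_iUnion (fun k => isCompact_range (s k).continuous)
  haveI : IsAffine J.subscheme := by
    apply isAffine_of_h1Zero
    intro I _ _ hI
    haveI := hI
    apply h1Zero_of_ann_prod Z s Finset.univ I
    rw [hprod]
    intro U a ha t
    rw [Scheme.IdealSheafData.ideal_bot] at ha
    have : a = 0 := ha
    rw [this, zero_smul]
  have hjs : Function.Surjective j := by
    intro x
    obtain ⟨k, a, ha⟩ := hcov x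
    refine ⟨s k a, ?_⟩
    rw [← ha, ← hfac k]
    rfl
  exact Groth.Agent.H1.ThickAff.isAffine_of_thickening j hjs

end Groth.Agent.H5.ClosedCover
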